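import Cfsg.Agent.Lib.AbelianTwo.Basic
import Cfsg.Agent.Lib.Schur.Unique
import Cfsg.Agent.Lib.Classical.DicksonProper
import Cfsg.Agent.Lib.Char.Burnside
import Cfsg.Agent.S0494
import Cfsg.Agent.S2086

/-!
Central extensions of the two-dimensional linear groups met among groups with abelian Sylow 2-subgroups.
-/

set_option autoImplicit false
set_option linter.style.haveILetI false

namespace Cfsg.Agent.AbelianTwo

open Matrix

universe u

theorem two_five : (2 : ZMod 5) ≠ 0 ∧ (2 : ZMod 5) ^ 2 ≠ 1 := by decide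

/-- The small two-dimensional groups are soluble. -/
theorem psl_small {F : Type} [Field F] [Fintype F] (hF : Fintype.card F = 2 ∨ Fintype.card F = 3) :
    Group.IsSolvable (ProjectiveSpecialLinearGroup (Fin 2) F) := by
  have hg := Dickson.gcd_mul_card_psl (K := F)
  rw [Nat.card_eq_fintype_card (α := F)] at hg
  rcases hF with e | e <;> rw [e] at hg <;> norm_num at hg
  · exact Char.isSolvable_of_card_pq 2 3 Nat.prime_two Nat.prime_three _ _ rfl ⟨1, 1, by omega⟩
  · exact Char.isSolvable_of_card_pq 2 3 Nat.prime_two Nat.prime_three _ _ rfl ⟨2, 1, by omega⟩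

/-- The two models of the group of order sixty. -/
theorem psl_four_five {F : Type} [Field F] [Fintype F] (hF : Fintype.card F = 4 ∨ Fintype.card F = 5) :
    Nonempty (ProjectiveSpecialLinearGroup (Fin 2) F ≃* ProjectiveSpecialLinearGroup (Fin 2) (ZMod 5)) := by
  haveI : Fact (Nat.Prime 5) := ⟨by norm_num⟩
  have h60 : ∀ (E : Type) [Field E] [Fintype E], Fintype.card E = 4 ∨ Fintype.card E = 5 →
      Nat.card (ProjectiveSpecialLinearGroup (Fin 2) E) = 60 := by
    intro E _ _ hE
    have hg := Dickson.gcd_mul_card_psl (K := E)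
    rw [Nat.card_eq_fintype_card (α := E)] at hg
    rcases hE with e | e <;> rw [e] at hg <;> norm_num at hg ⊢ <;> omega
  have hs : ∀ (E : Type) [Field E] [Fintype E], Fintype.card E = 4 ∨ Fintype.card E = 5 →
      Nonempty (ProjectiveSpecialLinearGroup (Fin 2) E ≃* alternatingGroup (Fin 5)) := by
    intro E _ _ hE
    haveI : IsSimpleGroup (ProjectiveSpecialLinearGroup (Fin 2) E) :=
      ProjectiveSpecialLinearGroup.rank_two_simple (by rw [Nat.card_eq_fintype_card]; omega)
    exact S0494.result (h60 E hE)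
  obtain ⟨a⟩ := hs F hF
  obtain ⟨b⟩ := hs (ZMod 5) (Or.inr (ZMod.card 5))
  exact ⟨a.trans b.symm⟩

/-- A perfect group with trivial multiplier on its central quotient is centreless. -/
theorem center_bot_of_trivial {K : Type u} [Group K] [Finite K] (hp : commutator K = ⊤) {Q : Type} [Group Q]
    [Finite Q] (hQ : Cfsg.HasCyclicSchurMultiplier Q 1) (e : K ⧸ Subgroup.center K ≃* Q) :
    Subgroup.center K = ⊥ := by
  set σ := e.toMonoidHom.comp (QuotientGroup.mk' (Subgroup.center K))
  have hk : σ.ker = Subgroup.center K := by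
    ext x; simp [σ]
  have := Schur.inf_commutator_eq_bot hQ σ (e.surjective.comp (QuotientGroup.mk'_surjective _)) hk.le
  rwa [hk, hp, inf_top_eq] at this

/-- A perfect cover of the group of order sixty with non-trivial centre is the special linear group. -/
theorem sl_five_of_center {K : Type u} [Group K] [Finite K] (hp : commutator K = ⊤)
    (e : K ⧸ Subgroup.center K ≃* ProjectiveSpecialLinearGroup (Fin 2) (ZMod 5)) (hZ : Subgroup.center K ≠ ⊥) :
    Nonempty (K ≃* SpecialLinearGroup (Fin 2) (ZMod 5)) := by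
  haveI : Fact (Nat.Prime 5) := ⟨by norm_num⟩
  haveI : Fact (Nat.Prime 2) := ⟨Nat.prime_two⟩
  obtain ⟨-, hM⟩ := (Schur.hasCyclicSchurMultiplier_iff _).1
    (S2086.result (F := ZMod 5) (ZMod.card 5) 2 le_rfl (fun _ => by norm_num) (by simp))
  rw [show Nat.gcd 2 (5 - 1) = 2 from rfl] at hM
  haveI hMc := isCyclic_of_prime_card hM
  set σ := e.toMonoidHom.comp (QuotientGroup.mk' (Subgroup.center K))
  have hs : Function.Surjective σ := e.surjective.comp (QuotientGroup.mk'_surjective _)
  have hk : σ.ker = Subgroup.center K := by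
    ext x; simp [σ]
  have hd := Schur.card_dvd_card_multiplier σ hs hk.le
  rw [hp, inf_top_eq, hM] at hd
  have h2 : Nat.card σ.ker = 2 := by
    rcases (Nat.dvd_prime Nat.prime_two).1 hd with h | h
    · exact absurd (hk ▸ Subgroup.eq_bot_of_card_eq _ h) hZ
    · exact h
  haveI := isCyclic_of_prime_card h2
  set τ := QuotientGroup.mk' (Subgroup.center (SpecialLinearGroup (Fin 2) (ZMod 5)))
  have hperf : commutator (SpecialLinearGroup (Fin 2) (ZMod 5)) = ⊤ :=
    Matrix.SL2.commutator_eq_top (a := (2 : ZMod 5)) two_five.1 two_five.2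
  have hτk : Nat.card τ.ker = 2 := by
    rw [QuotientGroup.ker_mk', ClassicalSL.card_center_sl, Fintype.card_fin, Nat.card_zmod]
    rfl
  haveI := isCyclic_of_prime_card hτk
  have hQ : commutator (ProjectiveSpecialLinearGroup (Fin 2) (ZMod 5)) = ⊤ := by
    rw [eq_top_iff, ← Subgroup.map_top_of_surjective σ hs, ← hp, commutator_def, Subgroup.map_commutator]
    exact Subgroup.commutator_mono le_top le_top
  have hcop : Nat.Coprime (Nat.card (Abelianization (ProjectiveSpecialLinearGroup (Fin 2) (ZMod 5))))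
      (Nat.card (Schur.Multiplier (ProjectiveSpecialLinearGroup (Fin 2) (ZMod 5)))) := by
    have : Nat.card (Abelianization (ProjectiveSpecialLinearGroup (Fin 2) (ZMod 5))) = 1 := by
      show (commutator (ProjectiveSpecialLinearGroup (Fin 2) (ZMod 5))).index = 1
      rw [hQ, Subgroup.index_top]
    rw [this]
    exact Nat.coprime_one_left _
  obtain ⟨f, -⟩ := Schur.cover_unique σ τ ⟨hs, hk.le, by rw [hp]; exact le_top⟩
    ⟨QuotientGroup.mk'_surjective _, (QuotientGroup.ker_mk' _).le, by rw [hperf]; exact le_top⟩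
    ⟨mulEquivOfCyclicCardEq (by rw [hM, h2])⟩ ⟨mulEquivOfCyclicCardEq (by rw [hM, hτk])⟩ hcop
  exact ⟨f⟩

end Cfsg.Agent.AbelianTwo
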