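import Mathlib

/-!
Groups with abelian Sylow 2-subgroups: involutions whose product has two-power order commute.
-/

set_option autoImplicit false

namespace Cfsg.Agent.AbelianTwo

variable {X Y : Type*} [Group X] [Group Y]

/-- The Sylow 2-subgroups are abelian. -/
def AbTwo (X : Type*) [Group X] : Prop := ∀ S : Sylow 2 X, IsMulCommutative ↥(S : Subgroup X)

theorem commute_of_isPGroup (h : AbTwo X) {H : Subgroup X} (hH : IsPGroup 2 H) {a b : X} (ha : a ∈ H) (hb : b ∈ H) :
    Commute a b := by
  obtain ⟨P, hP⟩ := hH.exists_le_sylow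
  haveI := h P
  exact congrArg Subtype.val (mul_comm' (⟨a, hP ha⟩ : ↥(P : Subgroup X)) ⟨b, hP hb⟩)

/-- Two involutions with product of two-power order generate a 2-group, hence commute. -/
theorem commute_of_pow (h : AbTwo X) {a b : X} (ha : a * a = 1) (hb : b * b = 1) (k : ℕ)
    (hk : (a * b) ^ (2 ^ k) = 1) : Commute a b := by
  have hai : a⁻¹ = a := inv_eq_of_mul_eq_one_right ha
  have hbi : b⁻¹ = b := inv_eq_of_mul_eq_one_right hb
  set Z := Subgroup.zpowers (a * b)
  have hinv : ∀ z ∈ Z, a * z * a = z⁻¹ := by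
    rintro _ ⟨i, rfl⟩
    have e : a * (a * b) * a⁻¹ = (a * b)⁻¹ := by
      rw [hai, mul_inv_rev, hai, hbi, ← mul_assoc a a b, ha, one_mul]
    calc a * (a * b) ^ i * a = a * (a * b) ^ i * a⁻¹ := by rw [hai]
      _ = (a * (a * b) * a⁻¹) ^ i := conj_zpow.symm
      _ = ((a * b) ^ i)⁻¹ := by rw [e, inv_zpow]
  have hH : IsPGroup 2 ↥(Subgroup.closure ({a, b} : Set X)) := by
    intro x
    have hx : (x : X) ∈ Z ∨ (x : X) * a ∈ Z := by
      suffices H : ∀ w ∈ Subgroup.closure ({a, b} : Set X), w ∈ Z ∨ w * a ∈ Z from H _ x.2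
      intro w hx
      induction hx using Subgroup.closure_induction with
      | mem y hy =>
        rcases hy with rfl | rfl
        · exact Or.inr (by rw [ha]; exact one_mem Z)
        · refine Or.inr ?_
          rw [show y * a = (a * y)⁻¹ by rw [mul_inv_rev, hai, hbi]]
          exact inv_mem (Subgroup.mem_zpowers _)
      | one => exact Or.inl (one_mem Z)
      | mul y z _ _ hy hz =>
        rcases hy with hy | hy <;> rcases hz with hz | hz
        · exact Or.inl (mul_mem hy hz)
        · exact Or.inr (by rw [mul_assoc]; exact mul_mem hy hz)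
        · refine Or.inr ?_
          rw [show y * z * a = y * a * (a * z * a) by rw [mul_assoc a z a, ← mul_assoc, mul_assoc y a a, ha, mul_one,
            mul_assoc], hinv z hz]
          exact mul_mem hy (inv_mem hz)
        · refine Or.inl ?_
          rw [show y * z = y * a * (a * (z * a) * a) by rw [← mul_assoc a z a, mul_assoc (a * z) a a, ha, mul_one,
            ← mul_assoc, mul_assoc y a a, ha, mul_one], hinv _ hz]
          exact mul_mem hy (inv_mem hz)
      | inv y _ hy =>
        rcases hy with hy | hy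
        · exact Or.inl (inv_mem hy)
        · refine Or.inr ?_
          have e := hinv _ hy
          rw [mul_inv_rev, hai, mul_assoc a (y * a) a, mul_assoc y a a, ha, mul_one] at e
          rw [← mul_left_cancel e]
          exact hy
    rcases hx with hx | hx
    · refine ⟨k, Subtype.ext ?_⟩
      obtain ⟨i, hi⟩ := hx
      simp only [Subgroup.coe_pow, Subgroup.coe_one]
      rw [← hi, ← zpow_natCast, ← zpow_mul, mul_comm, zpow_mul, zpow_natCast, hk, one_zpow]
    · refine ⟨1, Subtype.ext ?_⟩
      simp only [Subgroup.coe_pow, Subgroup.coe_one, pow_one]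
      have e := hinv _ hx
      rw [mul_assoc a ((x : X) * a) a, mul_assoc (x : X) a a, ha, mul_one] at e
      rw [pow_two]
      have : (x : X) * a * (a * x) = 1 := by rw [e, mul_inv_cancel]
      rwa [mul_assoc, ← mul_assoc a a, ha, one_mul] at this
  exact commute_of_isPGroup h hH (Subgroup.subset_closure (Or.inl rfl)) (Subgroup.subset_closure (Or.inr rfl))

/-- The form used to refute commutative Sylow 2-subgroups. -/
theorem false_of_pair (h : AbTwo X) {a b : X} (ha : a * a = 1) (hb : b * b = 1) (k : ℕ)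
    (hk : (a * b) ^ (2 ^ k) = 1) (hne : a * b ≠ b * a) : False :=
  hne (commute_of_pow h ha hb k hk).eq

/-- An element of two-power order normalising a cyclic 2-group centralises it. -/
theorem commute_of_norm (h : AbTwo X) {i j : X} (k l m : ℕ) (hi : i ^ (2 ^ k) = 1) (hj : j ^ (2 ^ l) = 1)
    (hc : j * i = i ^ m * j) : Commute i j := by
  have cyc : ∀ (x : X) (k : ℕ), x ^ (2 ^ k) = 1 → IsPGroup 2 ↥(Subgroup.zpowers x) := fun x k hx y => by
    refine ⟨k, Subtype.ext ?_⟩
    obtain ⟨y, e, rfl⟩ := y
    show (x ^ e) ^ (2 ^ k) = 1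
    rw [← zpow_natCast, ← zpow_mul, mul_comm, zpow_mul, zpow_natCast, hx, one_zpow]
  have hconj : ∀ z ∈ Subgroup.zpowers i, j * z * j⁻¹ ∈ Subgroup.zpowers i := by
    rintro _ ⟨e, rfl⟩
    show j * i ^ e * j⁻¹ ∈ _
    rw [← conj_zpow, hc, mul_inv_cancel_right]
    exact Subgroup.zpow_mem _ (Subgroup.pow_mem _ (Subgroup.mem_zpowers i) _) _
  have hnorm : Subgroup.zpowers j ≤ Subgroup.normalizer (Subgroup.zpowers i : Set X) := by
    refine Subgroup.zpowers_le.2 (Subgroup.mem_normalizer_iff.2 fun z => ⟨hconj z, fun hz => ?_⟩)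
    have : ∀ n : ℕ, j ^ (n + 1) * z * (j ^ (n + 1))⁻¹ ∈ Subgroup.zpowers i := by
      intro n
      induction n with
      | zero => simpa using hz
      | succ n ih => rw [pow_succ' j (n + 1), _root_.mul_inv_rev]; simpa [mul_assoc] using hconj _ ih
    have h1 := this (2 ^ l - 1)
    rwa [Nat.sub_add_cancel (Nat.one_le_two_pow), hj, one_mul, inv_one, mul_one] at h1
  have := (cyc i k hi).to_sup_of_normal_left' (cyc j l hj) hnorm
  exact commute_of_isPGroup h this (Subgroup.mem_sup_left (Subgroup.mem_zpowers i))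
    (Subgroup.mem_sup_right (Subgroup.mem_zpowers j))

theorem AbTwo.congr [Finite Y] (h : AbTwo X) (e : Y ≃* X) : AbTwo Y := by
  intro S
  refine ⟨⟨fun x y => Subtype.ext (e.injective ?_)⟩⟩
  have := (commute_of_isPGroup h (S.isPGroup'.map e.toMonoidHom) ⟨x, x.2, rfl⟩ ⟨y, y.2, rfl⟩).eq
  simpa using this

end Cfsg.Agent.AbelianTwo
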